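import Groth.Agent.SymAlgLib.Consequences
import Groth.Prelude.Def_RelProj2
import Mathlib.RingTheory.GradedAlgebra.Basic

/-!
# The grading of a symmetric algebra
-/

set_option autoImplicit false
set_option linter.unusedSectionVars false
set_option backward.isDefEq.respectTransparency false
set_option maxHeartbeats 1000000

universe u

open CategoryTheory CategoryTheory.Limits AlgebraicGeometry TopologicalSpace Opposite
open Groth.Agent.Coherent Groth.Agent.PicLib
open scoped DirectSum

namespace Groth.Agent.SymAlgLib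

section algebra

variable (R M : Type u) [CommRing R] [AddCommGroup M] [Module R M]

/-- The pieces of the symmetric algebra. -/
noncomputable def symPiece (n : ℕ) : Submodule R (SymmetricAlgebra R M) :=
  LinearMap.range (SymmetricAlgebra.ι R M) ^ n

instance : SetLike.GradedMonoid (symPiece R M) where
  one_mem := by rw [symPiece, pow_zero]; exact Submodule.one_le.1 le_rfl
  mul_mem i j a b ha hb := by
    rw [symPiece, pow_add]
    exact Submodule.mul_mem_mul ha hb

/-- The generators, in the direct sum. -/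
noncomputable def symGen : M →ₗ[R] ⨁ i, symPiece R M i :=
  DirectSum.lof R ℕ (fun i => symPiece R M i) 1 ∘ₗ
    (SymmetricAlgebra.ι R M).codRestrict _ fun m => by
      rw [symPiece, pow_one]
      exact LinearMap.mem_range_self _ m

noncomputable instance symGraded : GradedAlgebra (symPiece R M) :=
  GradedAlgebra.ofAlgHom _ (SymmetricAlgebra.lift (symGen R M))
    (by
      refine SymmetricAlgebra.algHom_ext (LinearMap.ext fun m => ?_)
      show DirectSum.coeAlgHom (symPiece R M) (SymmetricAlgebra.lift (symGen R M) (SymmetricAlgebra.ι R M m)) = _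
      rw [SymmetricAlgebra.lift_ι_apply]
      exact DirectSum.coeAlgHom_of (symPiece R M) 1 _)
    fun i x => by
    obtain ⟨x, hx⟩ := x
    unfold symPiece at hx
    induction hx using Submodule.pow_induction_on_left' with
    | algebraMap r =>
      rw [AlgHom.commutes, DirectSum.algebraMap_apply]; rfl
    | add x y i hx hy ihx ihy =>
      rw [map_add, ihx, ihy, ← map_add]
      rfl
    | mem_mul m hm i x hx ih =>
      obtain ⟨v, rfl⟩ := hm
      have h1 : SymmetricAlgebra.lift (symGen R M) (SymmetricAlgebra.ι R M v) =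
          DirectSum.of (fun i => symPiece R M i) 1
            ⟨SymmetricAlgebra.ι R M v, by rw [symPiece, pow_one]; exact LinearMap.mem_range_self _ v⟩ :=
        SymmetricAlgebra.lift_ι_apply _ v
      rw [map_mul, ih, h1, DirectSum.of_mul_of]
      exact DirectSum.of_eq_of_gradedMonoid_eq (Sigma.subtype_ext (add_comm _ _) rfl)

theorem algebraMap_mem_symPiece (r : R) : algebraMap R (SymmetricAlgebra R M) r ∈ symPiece R M 0 := by
  rw [symPiece, pow_zero, Submodule.mem_one]
  exact ⟨r, rfl⟩

theorem ι_mem_symPiece (m : M) : SymmetricAlgebra.ι R M m ∈ symPiece R M 1 := by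
  rw [symPiece, pow_one]
  exact LinearMap.mem_range_self _ m

theorem symMap_mem {R' M' : Type u} [CommRing R'] [AddCommGroup M'] [Module R' M'] {φ : R →+* R'}
    (f : M →ₛₗ[φ] M') {n : ℕ} {x : SymmetricAlgebra R M} (hx : x ∈ symPiece R M n) :
    symMap f x ∈ symPiece R' M' n := by
  unfold symPiece at hx
  induction hx using Submodule.pow_induction_on_left' with
  | algebraMap r => rw [symMap_algebraMap]; exact algebraMap_mem_symPiece R' M' _
  | add x y i _ _ ihx ihy => rw [map_add]; exact add_mem ihx ihy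
  | mem_mul m hm i x _ ih =>
    obtain ⟨v, rfl⟩ := hm
    rw [map_mul, symMap_ι, Nat.succ_eq_one_add]
    exact SetLike.mul_mem_graded (ι_mem_symPiece R' M' _) ih

/-- A grading transported along a ring isomorphism. -/
theorem nonempty_gradedRing_comap {A B : Type u} [CommRing A] [CommRing B] (e : A ≃+* B) (𝒜 : ℕ → AddSubgroup B)
    [GradedRing 𝒜] (𝒜' : ℕ → AddSubgroup A) (h : ∀ n x, x ∈ 𝒜' n ↔ e x ∈ 𝒜 n) : Nonempty (GradedRing 𝒜') := by
  classical
  haveI : SetLike.GradedMonoid 𝒜' :=
    { one_mem := (h 0 1).2 (by rw [map_one]; exact SetLike.GradedOne.one_mem)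
      mul_mem := fun i j a b ha hb => (h _ _).2 (by
        rw [map_mul]; exact SetLike.mul_mem_graded ((h i a).1 ha) ((h j b).1 hb)) }
  let f : ∀ n, 𝒜 n →+ 𝒜' n := fun n =>
    AddMonoidHom.mk' (fun x => ⟨e.symm x.1, (h n _).2 (by rw [e.apply_symm_apply]; exact x.2)⟩)
      fun a b => Subtype.ext (map_add e.symm _ _)
  let dec : A →+ ⨁ n, 𝒜' n :=
    (DirectSum.map f).comp ((DirectSum.decomposeAddEquiv 𝒜).toAddMonoidHom.comp e.toAddMonoidHom)
  have hcomp : (DirectSum.coeAddMonoidHom 𝒜').comp (DirectSum.map f) =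
      e.symm.toAddMonoidHom.comp (DirectSum.coeAddMonoidHom 𝒜) :=
    DirectSum.addHom_ext fun n x => by
      rw [AddMonoidHom.comp_apply, AddMonoidHom.comp_apply, DirectSum.map_of, DirectSum.coeAddMonoidHom_of,
        DirectSum.coeAddMonoidHom_of]
      rfl
  letI : DirectSum.Decomposition 𝒜' :=
    DirectSum.Decomposition.ofAddHom _ dec
      (AddMonoidHom.ext fun a => by
        refine (DFunLike.congr_fun hcomp (DirectSum.decompose 𝒜 (e a))).trans ?_
        show e.symm (DirectSum.coeAddMonoidHom 𝒜 (DirectSum.decompose 𝒜 (e a))) = a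
        exact (congrArg e.symm (DirectSum.Decomposition.left_inv (e a))).trans (e.symm_apply_apply a))
      (DirectSum.addHom_ext fun n x => by
        show DirectSum.map f (DirectSum.decompose 𝒜 (e (DirectSum.coeAddMonoidHom _ (DirectSum.of _ n x)))) = _
        rw [DirectSum.coeAddMonoidHom_of, DirectSum.decompose_of_mem 𝒜 ((h n _).1 x.2), DirectSum.map_of]
        exact congrArg _ (Subtype.ext (e.symm_apply_apply _)))
  exact ⟨{}⟩

end algebra

variable {S : Scheme.{u}} (E : S.Modules) [Coh.IsQCoh E]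

/-- The identification of the sections over an affine open. -/
noncomputable def secEquiv (U : S.Opens) (hU : IsAffineOpen U) :
    (symAlg E).presheaf.obj (op U) ≃+* SymmetricAlgebra Γ(S, U) Γ(E, U) :=
  ((secIso E).app (op ⟨U, hU⟩)).commRingCatIsoToRingEquiv

/-- The pieces as subgroups. -/
noncomputable def symSubgroup (U : S.Opens) (n : ℕ) : AddSubgroup (SymmetricAlgebra Γ(S, U) Γ(E, U)) :=
  (symPiece Γ(S, U) Γ(E, U) n).toAddSubgroup

theorem nonempty_symSubgroup_graded (U : S.Opens) : Nonempty (GradedRing (symSubgroup E U)) := by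
  haveI : SetLike.GradedMonoid (symSubgroup E U) :=
    { one_mem := SetLike.GradedOne.one_mem (A := symPiece Γ(S, U) Γ(E, U))
      mul_mem := fun i j a b ha hb => SetLike.mul_mem_graded (A := symPiece Γ(S, U) Γ(E, U)) ha hb }
  exact ⟨{
    decompose' := DirectSum.decompose (symPiece Γ(S, U) Γ(E, U))
    left_inv := DirectSum.Decomposition.left_inv (ℳ := symPiece Γ(S, U) Γ(E, U))
    right_inv := DirectSum.Decomposition.right_inv (ℳ := symPiece Γ(S, U) Γ(E, U)) }⟩

theorem secEquiv_res {U V : S.Opens} (hU : IsAffineOpen U) (hV : IsAffineOpen V) (h : V ≤ U)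
    (x : (symAlg E).presheaf.obj (op U)) :
    secEquiv E V hV ((symAlg E).presheaf.map (homOfLE h).op x) = symMap (secMap E h) (secEquiv E U hU x) := by
  have key : ((secEquiv E V hV).toRingHom.comp (((symAlg E).presheaf.map (homOfLE h).op).hom.comp
      (secEquiv E U hU).symm.toRingHom)) = symMap (secMap E h) := ringHom_ext
    (fun r => by
      rw [symMap_algebraMap]
      apply (secEquiv E V hV).symm.injective
      refine ((secEquiv E V hV).symm_apply_apply _).trans ?_
      refine Eq.trans ?_ (secIso_inv_algebraMap E ⟨V, hV⟩ _).symm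
      refine (congrArg ((symAlg E).presheaf.map (homOfLE h).op) (secIso_inv_algebraMap E ⟨U, hU⟩ r)).trans ?_
      exact (ConcreteCategory.congr_hom ((symAlg E).str.naturality (homOfLE h).op) r).symm)
    (fun m => by
      rw [symMap_ι]
      apply (secEquiv E V hV).symm.injective
      refine ((secEquiv E V hV).symm_apply_apply _).trans ?_
      refine Eq.trans ?_ (gen_app E ⟨V, hV⟩ _)
      refine (congrArg ((symAlg E).presheaf.map (homOfLE h).op) (gen_app E ⟨U, hU⟩ m).symm).trans ?_
      exact (app_resM (gen E) h m).symm)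
  rw [← key]
  simp only [RingHom.comp_apply, RingEquiv.toRingHom_eq_coe, RingEquiv.coe_toRingHom]
  rw [RingEquiv.symm_apply_apply]

/-- The graded symmetric algebra. -/
noncomputable def symGrAlg : RelProj.QCGrAlg S where
  toQCAlg := symAlg E
  deg U hU n := (symSubgroup E U n).comap (secEquiv E U hU).toAddMonoidHom
  graded U hU :=
    haveI := (nonempty_symSubgroup_graded E U).some
    (nonempty_gradedRing_comap (secEquiv E U hU) (symSubgroup E U) _ (fun _ _ => Iff.rfl)).some
  map_mem {U V} hU hV i {d x} hx := by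
    show secEquiv E V hV ((symAlg E).presheaf.map (homOfLE i).op x) ∈ symPiece Γ(S, V) Γ(E, V) d
    rw [secEquiv_res E hU hV i x]
    exact symMap_mem _ _ (secMap E i) hx
  str_mem U hU r := by
    show secEquiv E U hU ((symAlg E).str.app (op U) r) ∈ symPiece Γ(S, U) Γ(E, U) 0
    have h : secEquiv E U hU ((symAlg E).str.app (op U) r) = algebraMap Γ(S, U) _ r :=
      ConcreteCategory.congr_hom (str_algIso (coequifibered_symStr E) ⟨U, hU⟩) r
    rw [h]
    exact algebraMap_mem_symPiece _ _ r

theorem isGrSymAlg_symGrAlg : RelProj.IsGrSymAlg E (symGrAlg E) (gen E) := by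
  refine ⟨isSymAlg_symAlg E, fun U hU x => ?_⟩
  show secEquiv E U hU ((gen E).app U x) ∈ symPiece Γ(S, U) Γ(E, U) 1
  have h : secEquiv E U hU ((gen E).app U x) = SymmetricAlgebra.ι Γ(S, U) Γ(E, U) x := by
    apply (secEquiv E U hU).symm.injective
    rw [RingEquiv.symm_apply_apply]
    exact gen_app E ⟨U, hU⟩ x
  rw [h]
  exact ι_mem_symPiece _ _ x

variable {E} {𝒮 : RelProj.QCGrAlg S} {j : E ⟶ 𝒮.toModule} (hj : RelProj.IsGrSymAlg E 𝒮 j)
include hj

/-- Over an affine open the degree zero part is the scalars and the degree one part the generators. -/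
theorem deg_zero_one {U : S.Opens} (hU : IsAffineOpen U) (x : 𝒮.presheaf.obj (op U)) :
    (x ∈ 𝒮.deg U hU 0 → ∃ r, 𝒮.str.app (op U) r = x) ∧
      (x ∈ 𝒮.deg U hU 1 → ∃ e : Γ(E, U), (show 𝒮.presheaf.obj (op U) from j.app U e) = x) := by
  classical
  let D := DirectSum.decompose (𝒮.deg U hU)
  let f : Γ(E, U) → 𝒮.presheaf.obj (op U) := fun e => j.app U e
  have hfadd : ∀ a b, f (a + b) = f a + f b := map_add (j.app U).hom
  have hfz : f 0 = 0 := map_zero (j.app U).hom
  have hfn : ∀ a, f (-a) = -f a := map_neg (j.app U).hom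
  have hfs : ∀ r a, f (r • a) = 𝒮.str.app (op U) r * f a := fun r a => Scheme.Modules.Hom.app_smul j r a
  have hf1 : ∀ e, f e ∈ 𝒮.deg U hU 1 := fun e => hj.2 U hU e
  let H : Subring (𝒮.presheaf.obj (op U)) :=
    { carrier := {y | (∃ r, 𝒮.str.app (op U) r = (D y 0 : 𝒮.presheaf.obj (op U))) ∧
        ∃ e : Γ(E, U), f e = (D y 1 : 𝒮.presheaf.obj (op U))}
      mul_mem' := by
        rintro a b ⟨⟨r, hr⟩, ⟨e, he⟩⟩ ⟨⟨r', hr'⟩, ⟨e', he'⟩⟩
        refine ⟨⟨r * r', ?_⟩, ⟨r • e' + r' • e, ?_⟩⟩
        · rw [map_mul, hr, hr']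
          simp only [D, DirectSum.decompose_mul, DirectSum.coe_mul_apply_eq_sum_antidiagonal]
          simp [Finset.Nat.antidiagonal_succ]
        · rw [hfadd, hfs, hfs, hr, hr', he, he']
          simp only [D, DirectSum.decompose_mul, DirectSum.coe_mul_apply_eq_sum_antidiagonal]
          simp [Finset.Nat.antidiagonal_succ]
          ring
      one_mem' := by
        have h1 : (1 : 𝒮.presheaf.obj (op U)) ∈ 𝒮.deg U hU 0 := SetLike.GradedOne.one_mem
        refine ⟨⟨1, ?_⟩, ⟨0, ?_⟩⟩
        · simp only [D, map_one, DirectSum.decompose_of_mem_same (𝒮.deg U hU) h1]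
        · simp only [D, DirectSum.decompose_of_mem_ne (𝒮.deg U hU) h1 zero_ne_one]
          exact hfz
      add_mem' := by
        rintro a b ⟨⟨r, hr⟩, ⟨e, he⟩⟩ ⟨⟨r', hr'⟩, ⟨e', he'⟩⟩
        refine ⟨⟨r + r', ?_⟩, ⟨e + e', ?_⟩⟩
        · rw [map_add, hr, hr', DirectSum.decompose_add]; rfl
        · rw [hfadd, he, he', DirectSum.decompose_add]; rfl
      zero_mem' := by
        refine ⟨⟨0, ?_⟩, ⟨0, ?_⟩⟩
        · rw [map_zero, DirectSum.decompose_zero]; rfl
        · rw [hfz, DirectSum.decompose_zero]; rfl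
      neg_mem' := by
        rintro a ⟨⟨r, hr⟩, ⟨e, he⟩⟩
        refine ⟨⟨-r, ?_⟩, ⟨-e, ?_⟩⟩
        · rw [map_neg, hr, DirectSum.decompose_neg]; rfl
        · rw [hfn, he, DirectSum.decompose_neg]; rfl }
  have hx : x ∈ H := by
    refine (Subring.closure_le (t := H)).2 ?_ ((closure_eq_top hj.1 hU).ge (Subring.mem_top x))
    rintro _ (⟨r, rfl⟩ | ⟨e, rfl⟩)
    rotate_left
    · change f e ∈ H
      refine ⟨⟨0, ?_⟩, ⟨e, ?_⟩⟩
      · simp only [D, DirectSum.decompose_of_mem_ne (𝒮.deg U hU) (hf1 e) one_ne_zero, map_zero]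
      · simp only [D, DirectSum.decompose_of_mem_same (𝒮.deg U hU) (hf1 e)]
    · refine ⟨⟨r, ?_⟩, ⟨0, ?_⟩⟩
      · simp only [D, DirectSum.decompose_of_mem_same (𝒮.deg U hU) (𝒮.str_mem U hU r)]
      · simp only [D, DirectSum.decompose_of_mem_ne (𝒮.deg U hU) (𝒮.str_mem U hU r) zero_ne_one]
        exact hfz
  refine ⟨fun h0 => ?_, fun h1 => ?_⟩
  · obtain ⟨r, hr⟩ := hx.1
    exact ⟨r, hr.trans (DirectSum.decompose_of_mem_same _ h0)⟩
  · obtain ⟨e, he⟩ := hx.2
    exact ⟨e, he.trans (DirectSum.decompose_of_mem_same _ h1)⟩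

theorem isGenDegOne_of_isGrSymAlg : 𝒮.IsGenDegOne := by
  intro U hU
  refine top_le_iff.1 ((closure_eq_top hj.1 hU).ge.trans (Subring.closure_mono ?_))
  rintro _ (⟨r, rfl⟩ | ⟨e, rfl⟩)
  · exact Or.inl (𝒮.str_mem U hU r)
  · exact Or.inr (hj.2 U hU e)

theorem isFTDeg_one_of_isGrSymAlg (hfin : ∀ U : S.Opens, IsAffineOpen U → Module.Finite Γ(S, U) Γ(E, U)) :
    𝒮.IsFTDeg 1 := by
  classical
  intro U hU
  obtain ⟨s, hs⟩ := (hfin U hU).fg_top
  let f : Γ(E, U) → 𝒮.presheaf.obj (op U) := fun e => j.app U e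
  refine ⟨s.image f, ?_, fun x hx => ?_⟩
  · intro y hy
    obtain ⟨e, -, rfl⟩ := Finset.mem_image.1 hy
    exact hj.2 U hU e
  · obtain ⟨e, rfl⟩ := (deg_zero_one hj hU x).2 hx
    have he : e ∈ Submodule.span Γ(S, U) (s : Set Γ(E, U)) := hs.ge trivial
    show ∃ c : 𝒮.presheaf.obj (op U) → Γ(S, U), f e = ∑ t ∈ s.image f, 𝒮.str.app (op U) (c t) * t
    induction he using Submodule.span_induction with
    | mem z hz =>
      refine ⟨fun t => if t = f z then 1 else 0, ?_⟩
      rw [Finset.sum_eq_single (f z)]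
      · simp
      · intro b _ hb; simp [hb]
      · intro h; exact absurd (Finset.mem_image_of_mem f hz) h
    | zero => exact ⟨0, by simp [f]⟩
    | add a b _ _ ha hb =>
      obtain ⟨c, hc⟩ := ha (hj.2 U hU a)
      obtain ⟨d, hd⟩ := hb (hj.2 U hU b)
      refine ⟨c + d, ?_⟩
      simp only [Pi.add_apply, map_add, add_mul, Finset.sum_add_distrib, ← hc, ← hd]
      exact map_add (j.app U).hom a b
    | smul r a _ ha =>
      obtain ⟨c, hc⟩ := ha (hj.2 U hU a)
      refine ⟨fun t => r * c t, ?_⟩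
      simp only [map_mul, mul_assoc, ← Finset.mul_sum, ← hc]
      exact Scheme.Modules.Hom.app_smul j r a

end Groth.Agent.SymAlgLib
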