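import Groth.Agent.SymAlgLib.Build
import Groth.Agent.Coherent.QcohOps
import Groth.Agent.Coherent.FiniteType

/-!
# Sections of symmetric algebras over affine opens
-/

set_option autoImplicit false
set_option linter.unusedSectionVars false
set_option backward.isDefEq.respectTransparency false
set_option maxHeartbeats 1000000

universe u

open CategoryTheory CategoryTheory.Limits AlgebraicGeometry TopologicalSpace Opposite
open Groth.Agent.Coherent Groth.Agent.PicLib

namespace Groth.Agent.SymAlgLib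

variable {S : Scheme.{u}} {E : S.Modules} {A : RelSpec.QCAlg S} {j : E ⟶ A.toModule}

theorem toModuleMap_app {B : RelSpec.QCAlg S} (ψ : A ⟶ B) (U : S.Opens) (x : Γ(A.toModule, U)) :
    (RelSpec.QCAlg.Hom.toModuleMap ψ).app U x = ψ.hom.app (op U) x := rfl

theorem toModuleMap_comp {B C : RelSpec.QCAlg S} (ψ : A ⟶ B) (χ : B ⟶ C) :
    RelSpec.QCAlg.Hom.toModuleMap (ψ ≫ χ) = RelSpec.QCAlg.Hom.toModuleMap ψ ≫ RelSpec.QCAlg.Hom.toModuleMap χ :=
  Scheme.Modules.hom_ext _ _ fun _ => rfl

theorem toModuleMap_id : RelSpec.QCAlg.Hom.toModuleMap (𝟙 A) = 𝟙 A.toModule :=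
  Scheme.Modules.hom_ext _ _ fun _ => rfl

variable [Coh.IsQCoh E] (hA : RelSpec.IsSymAlg E A j)
include hA

/-- Any symmetric algebra is the constructed one. -/
theorem exists_iso_symAlg :
    ∃ e : symAlg E ≅ A, gen E ≫ RelSpec.QCAlg.Hom.toModuleMap e.hom = j := by
  obtain ⟨ψ, hψ, -⟩ := isSymAlg_symAlg E A j
  obtain ⟨χ, hχ, -⟩ := hA (symAlg E) (gen E)
  refine ⟨⟨ψ, χ, ?_, ?_⟩, hψ⟩
  · refine (isSymAlg_symAlg E (symAlg E) (gen E)).unique ?_ ?_
    · rw [toModuleMap_comp, ← Category.assoc, hψ, hχ]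
    · rw [toModuleMap_id, Category.comp_id]
  · refine (hA A j).unique ?_ ?_
    · rw [toModuleMap_comp, ← Category.assoc, hχ, hψ]
    · rw [toModuleMap_id, Category.comp_id]

variable {U : S.Opens} (hU : IsAffineOpen U)
include hU

/-- Over an affine open the symmetric algebra is generated by scalars and generators. -/
theorem closure_eq_top :
    Subring.closure (Set.range (A.str.app (op U)).hom ∪ Set.range (fun x : Γ(E, U) => (j.app U x :
      A.presheaf.obj (op U)))) = ⊤ := by
  obtain ⟨e, he⟩ := exists_iso_symAlg hA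
  let θ : SymmetricAlgebra Γ(S, U) Γ(E, U) →+* A.presheaf.obj (op U) :=
    ((secIso E).inv.app (op ⟨U, hU⟩) ≫ e.hom.hom.app (op U)).hom
  have hs : Function.Surjective θ := by
    have : IsIso (e.hom.hom.app (op U)) := ⟨e.inv.hom.app (op U),
      NatTrans.congr_app (congrArg RelSpec.QCAlg.Hom.hom e.hom_inv_id) (op U),
      NatTrans.congr_app (congrArg RelSpec.QCAlg.Hom.hom e.inv_hom_id) (op U)⟩
    exact (ConcreteCategory.bijective_of_isIso ((secIso E).inv.app (op ⟨U, hU⟩) ≫ e.hom.hom.app (op U))).2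
  refine eq_top_iff.2 fun x _ => ?_
  obtain ⟨y, rfl⟩ := hs x
  induction y using SymmetricAlgebra.induction with
  | algebraMap r =>
    refine Subring.subset_closure (Or.inl ⟨r, ?_⟩)
    show A.str.app (op U) r = e.hom.hom.app (op U) ((secIso E).inv.app (op ⟨U, hU⟩) _)
    rw [secIso_inv_algebraMap E ⟨U, hU⟩]
    exact (ConcreteCategory.congr_hom (NatTrans.congr_app e.hom.comm (op U)) r).symm
  | ι m =>
    refine Subring.subset_closure (Or.inr ⟨m, ?_⟩)
    show j.app U m = e.hom.hom.app (op U) ((secIso E).inv.app (op ⟨U, hU⟩) _)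
    rw [← gen_app E ⟨U, hU⟩, ← he]
    rfl
  | mul a b ha hb => rw [map_mul]; exact mul_mem (ha trivial) (hb trivial)
  | add a b ha hb => rw [map_add]; exact add_mem (ha trivial) (hb trivial)

/-- Ring homomorphisms out of the sections are determined on scalars and generators. -/
theorem sectionsHom_ext {C : Type u} [CommRing C] {F G : A.presheaf.obj (op U) →+* C}
    (h0 : ∀ r, F (A.str.app (op U) r) = G (A.str.app (op U) r))
    (h1 : ∀ x : Γ(E, U), F (j.app U x) = G (j.app U x)) : F = G := by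
  refine RingHom.ext fun x => ?_
  have hx : x ∈ Subring.closure (Set.range (A.str.app (op U)).hom ∪ Set.range (fun x : Γ(E, U) => (j.app U x :
      A.presheaf.obj (op U)))) := (closure_eq_top hA hU).ge (Subring.mem_top x)
  refine (Subring.closure_le (t := F.eqLocus G)).2 ?_ hx
  rintro _ (⟨r, rfl⟩ | ⟨y, rfl⟩)
  · exact h0 r
  · exact h1 y

/-- The universal property of the sections over an affine open. -/
theorem exists_sectionsHom {C : Type u} [CommRing C] (a : Γ(S, U) →+* C) (b : Γ(E, U) →+ C)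
    (hb : ∀ (r : Γ(S, U)) (x : Γ(E, U)), b (r • x) = a r * b x) :
    ∃ F : A.presheaf.obj (op U) →+* C, (∀ r, F (A.str.app (op U) r) = a r) ∧ ∀ x : Γ(E, U), F (j.app U x) = b x := by
  obtain ⟨e, he⟩ := exists_iso_symAlg hA
  letI := a.toAlgebra
  let L : SymmetricAlgebra Γ(S, U) Γ(E, U) →ₐ[Γ(S, U)] C :=
    SymmetricAlgebra.lift ({ toFun := b, map_add' := map_add b, map_smul' := fun r x => hb r x } :
      Γ(E, U) →ₗ[Γ(S, U)] C)
  refine ⟨L.toRingHom.comp (((secIso E).hom.app (op ⟨U, hU⟩)).hom.comp (e.inv.hom.app (op U)).hom),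
    fun r => ?_, fun x => ?_⟩
  · show L ((secIso E).hom.app (op ⟨U, hU⟩) (e.inv.hom.app (op U) (A.str.app (op U) r))) = a r
    have h1 : e.inv.hom.app (op U) (A.str.app (op U) r) = (symAlg E).str.app (op U) r :=
      ConcreteCategory.congr_hom (NatTrans.congr_app e.inv.comm (op U)) r
    rw [h1]
    erw [ConcreteCategory.congr_hom (str_algIso (coequifibered_symStr E) ⟨U, hU⟩) r]
    exact L.commutes r
  · show L ((secIso E).hom.app (op ⟨U, hU⟩) (e.inv.hom.app (op U) (j.app U x))) = b x
    have h1 : e.inv.hom.app (op U) (j.app U x) = (gen E).app U x := by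
      rw [← he]
      exact ConcreteCategory.congr_hom (NatTrans.congr_app (congrArg RelSpec.QCAlg.Hom.hom e.hom_inv_id) (op U))
        ((gen E).app U x)
    rw [h1, gen_app E ⟨U, hU⟩]
    erw [ConcreteCategory.congr_hom (Iso.inv_hom_id_app (secIso E) (op ⟨U, hU⟩))]
    exact SymmetricAlgebra.lift_ι_apply (A := C) _ x

/-- Finitely many generators of the module give a finite type algebra. -/
theorem finiteType_str (hfin : Module.Finite Γ(S, U) Γ(E, U)) : (A.str.app (op U)).hom.FiniteType := by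
  letI := (A.str.app (op U)).hom.toAlgebra
  obtain ⟨s, hs⟩ := hfin.fg_top
  classical
  let f : Γ(E, U) → A.presheaf.obj (op U) := fun x => j.app U x
  let T : Subalgebra Γ(S, U) (A.presheaf.obj (op U)) := Algebra.adjoin Γ(S, U) (s.image f : Set _)
  refine (⟨⟨s.image f, ?_⟩⟩ : Algebra.FiniteType Γ(S, U) (A.presheaf.obj (op U)))
  refine eq_top_iff.2 fun x _ => ?_
  have hx : x ∈ Subring.closure (Set.range (A.str.app (op U)).hom ∪ Set.range f) :=
    (closure_eq_top hA hU).ge (Subring.mem_top x)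
  refine (Subring.closure_le (t := T.toSubring)).2 ?_ hx
  rintro _ (⟨r, rfl⟩ | ⟨y, rfl⟩)
  · exact T.algebraMap_mem r
  · have hy : y ∈ Submodule.span Γ(S, U) (s : Set Γ(E, U)) := hs.ge trivial
    show f y ∈ T
    induction hy using Submodule.span_induction with
    | mem z hz => exact Algebra.subset_adjoin (by simpa [f] using ⟨z, hz, rfl⟩)
    | zero => simp only [f, map_zero]; exact T.zero_mem
    | add z w _ _ hz hw => simp only [f, map_add]; exact T.add_mem hz hw
    | smul r z _ hz =>
      simp only [f, Scheme.Modules.Hom.app_smul]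
      exact T.mul_mem (T.algebraMap_mem r) hz

omit hA hU

/-- An epimorphism of modules gives surjections of symmetric algebras. -/
theorem surjective_of_epi {F : S.Modules} [Coh.IsQCoh F] (u : E ⟶ F) [Epi u] {B : RelSpec.QCAlg S}
    {k : F ⟶ B.toModule} (hB : RelSpec.IsSymAlg F B k) (ψ : A ⟶ B)
    (hψ : j ≫ RelSpec.QCAlg.Hom.toModuleMap ψ = u ≫ k) {U : S.Opens} (hU : IsAffineOpen U) :
    Function.Surjective (ψ.hom.app (op U)).hom := by
  haveI := isQCoh_kernel u
  let T : ShortComplex S.Modules := ShortComplex.mk (kernel.ι u) u (kernel.condition u)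
  have hT : T.ShortExact := { exact := T.exact_of_f_is_kernel (kernelIsKernel u) }
  haveI : Coh.IsQCoh T.X₁ := isQCoh_kernel u
  intro y
  have hy : y ∈ Subring.closure (Set.range (B.str.app (op U)).hom ∪ Set.range (fun x : Γ(F, U) => (k.app U x :
      B.presheaf.obj (op U)))) := (closure_eq_top hB hU).ge (Subring.mem_top y)
  refine (Subring.closure_le (t := (ψ.hom.app (op U)).hom.range)).2 ?_ hy
  rintro _ (⟨r, rfl⟩ | ⟨z, rfl⟩)
  · exact ⟨A.str.app (op U) r, ConcreteCategory.congr_hom (NatTrans.congr_app ψ.comm (op U)) r⟩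
  · obtain ⟨x, hx⟩ := sections_surjective hT hU z
    refine ⟨j.app U x, ?_⟩
    rw [← hx]
    exact ConcreteCategory.congr_hom (congrArg (fun φ => Scheme.Modules.Hom.app φ U) hψ) x

end Groth.Agent.SymAlgLib
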