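import Groth.Agent.SymAlgLib.Consequences

/-!
# Maps of relative spectra of symmetric algebras
-/

set_option autoImplicit false
set_option linter.unusedSectionVars false
set_option backward.isDefEq.respectTransparency false
set_option maxHeartbeats 1000000

universe u

open CategoryTheory CategoryTheory.Limits AlgebraicGeometry TopologicalSpace Opposite
open Groth.Agent.Coherent Groth.Agent.PicLib

namespace Groth.Agent.SymAlgLib

variable {S : Scheme.{u}} {A B : RelSpec.QCAlg S}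

/-- The charts as a cover. -/
noncomputable def chartCover (A : RelSpec.QCAlg S) : A.spec.OpenCover := A.glueData.cover

theorem specMap_isPullback (ψ : A ⟶ B) (U : S.Opens) (hU : IsAffineOpen U) :
    IsPullback (Spec.map (ψ.hom.app (op U))) (B.ι U hU) (A.ι U hU) (RelSpec.QCAlg.specMap ψ) := by
  refine IsOpenImmersion.isPullback _ _ _ _ (RelSpec.QCAlg.ι_specMap U hU ψ) ?_
  rw [← A.π_preimage U hU, ← Scheme.Hom.comp_preimage, RelSpec.QCAlg.specMap_π, B.π_preimage U hU]

/-- A property local at the target holds for a map of spectra when it holds on the charts. -/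
theorem specMap_of_charts (P : MorphismProperty Scheme.{u}) [IsZariskiLocalAtTarget P] (ψ : A ⟶ B)
    (h : ∀ (U : S.Opens), IsAffineOpen U → P (Spec.map (ψ.hom.app (op U)))) : P (RelSpec.QCAlg.specMap ψ) := by
  refine IsZariskiLocalAtTarget.of_openCover (chartCover A) fun V => ?_
  have hpb := (specMap_isPullback ψ V.1 V.2).flip
  show P (pullback.snd (RelSpec.QCAlg.specMap ψ) (A.ι V.1 V.2))
  rw [← hpb.isoPullback_inv_snd, MorphismProperty.cancel_left_of_respectsIso P]
  exact h V.1 V.2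

theorem isClosedImmersion_specMap (ψ : A ⟶ B)
    (h : ∀ (U : S.Opens), IsAffineOpen U → Function.Surjective (ψ.hom.app (op U)).hom) :
    IsClosedImmersion (RelSpec.QCAlg.specMap ψ) :=
  specMap_of_charts @IsClosedImmersion ψ fun U hU => IsClosedImmersion.spec_of_surjective _ (h U hU)

theorem locallyOfFiniteType_π (h : ∀ (U : S.Opens), IsAffineOpen U → (A.str.app (op U)).hom.FiniteType) :
    LocallyOfFiniteType A.π := by
  refine IsZariskiLocalAtSource.of_openCover (chartCover A) fun V => ?_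
  show LocallyOfFiniteType (A.ι V.1 V.2 ≫ A.π)
  rw [A.ι_π V.1 V.2]
  haveI : LocallyOfFiniteType (Spec.map (A.str.app (op V.1))) :=
    (HasRingHomProperty.Spec_iff (P := @LocallyOfFiniteType)).2 (h V.1 V.2)
  exact MorphismProperty.comp_mem _ _ _ ‹_› inferInstance

theorem isPullback_comp_mono {P X Y Z W : Scheme.{u}} {p₁ : P ⟶ X} {p₂ : P ⟶ Y} {f : X ⟶ Z} {g : Y ⟶ Z}
    (h : IsPullback p₁ p₂ f g) (k : Z ⟶ W) [Mono k] : IsPullback p₁ p₂ (f ≫ k) (g ≫ k) := by
  refine ⟨⟨by rw [← Category.assoc, h.w, Category.assoc]⟩, ⟨PullbackCone.IsLimit.mk _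
    (fun s => h.lift s.fst s.snd ((cancel_mono k).1 (by simpa only [Category.assoc] using s.condition)))
    (fun s => h.lift_fst _ _ _) (fun s => h.lift_snd _ _ _) (fun s m h₁ h₂ => h.hom_ext ?_ ?_)⟩⟩
  · rw [h₁, h.lift_fst]
  · rw [h₂, h.lift_snd]

variable {C : RelSpec.QCAlg S}

/-- Pushouts over affine opens give pullbacks of relative spectra. -/
theorem isPullback_specMap (α : A ⟶ C) (β : B ⟶ C)
    (h : ∀ (U : S.Opens), IsAffineOpen U →
      IsPushout (A.str.app (op U)) (B.str.app (op U)) (α.hom.app (op U)) (β.hom.app (op U))) :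
    IsPullback (RelSpec.QCAlg.specMap α) (RelSpec.QCAlg.specMap β) A.π B.π := by
  have w : RelSpec.QCAlg.specMap α ≫ A.π = RelSpec.QCAlg.specMap β ≫ B.π := by
    rw [RelSpec.QCAlg.specMap_π, RelSpec.QCAlg.specMap_π]
  let L := pullback.lift _ _ w
  suffices IsIso L from IsPullback.of_iso_pullback ⟨w⟩ (asIso L) (pullback.lift_fst _ _ _) (pullback.lift_snd _ _ _)
  let J := S.AffineZariskiSite
  let m : ∀ V : J, pullback (A.ι V.1 V.2 ≫ A.π) (B.ι V.1 V.2 ≫ B.π) ⟶ pullback A.π B.π := fun V =>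
    pullback.map _ _ _ _ (A.ι V.1 V.2) (B.ι V.1 V.2) (𝟙 S) (Category.comp_id _) (Category.comp_id _)
  have hm : ∀ (V : J) (z : (pullback A.π B.π : Scheme.{u})),
      A.π (pullback.fst A.π B.π z) ∈ V.1 → z ∈ (m V).opensRange := by
    intro V z hz
    show z ∈ Set.range (m V)
    rw [Scheme.Pullback.range_map]
    have hz' : B.π (pullback.snd A.π B.π z) ∈ V.1 := by
      rw [← Scheme.Hom.comp_apply, ← pullback.condition, Scheme.Hom.comp_apply]
      exact hz
    exact ⟨(A.π_preimage V.1 V.2).le hz, (B.π_preimage V.1 V.2).le hz'⟩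
  have hsup : ⨆ V : J, (m V).opensRange = ⊤ := top_le_iff.1 fun z _ => by
    obtain ⟨U, hU, hz, -⟩ := Opens.isBasis_iff_nbhd.1 S.isBasis_affineOpens
      (Opens.mem_top (A.π (pullback.fst A.π B.π z)))
    exact Opens.mem_iSup.2 ⟨⟨U, hU⟩, hm ⟨U, hU⟩ z hz⟩
  show MorphismProperty.isomorphisms Scheme L
  refine (IsZariskiLocalAtTarget.iff_of_iSup_eq_top _ hsup).2 fun V => ?_
  have hsq : IsPullback (Spec.map (α.hom.app (op V.1))) (Spec.map (β.hom.app (op V.1)))
      (A.ι V.1 V.2 ≫ A.π) (B.ι V.1 V.2 ≫ B.π) := by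
    rw [A.ι_π, B.ι_π]
    exact isPullback_comp_mono (isPullback_SpecMap_of_isPushout _ _ _ _ (h V.1 V.2)) _
  let g := hsq.isoPullback.hom
  have hLg : C.ι V.1 V.2 ≫ L = g ≫ m V := by
    refine pullback.hom_ext ?_ ?_
    · simp only [g, m, L, pullback.map, Category.assoc, pullback.lift_fst, RelSpec.QCAlg.ι_specMap,
        IsPullback.isoPullback_hom_fst_assoc]
    · simp only [g, m, L, pullback.map, Category.assoc, pullback.lift_snd, RelSpec.QCAlg.ι_specMap,
        IsPullback.isoPullback_hom_snd_assoc]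
  have hpre : L ⁻¹ᵁ (m V).opensRange = (C.ι V.1 V.2).opensRange := by
    refine le_antisymm (fun z hz => ?_) ?_
    · obtain ⟨t, ht⟩ := hz
      have hfst : pullback.fst A.π B.π (m V t) = A.ι V.1 V.2 (pullback.fst (A.ι V.1 V.2 ≫ A.π) (B.ι V.1 V.2 ≫ B.π) t) := by
        rw [← Scheme.Hom.comp_apply, pullback.lift_fst, Scheme.Hom.comp_apply]
      have h2 : RelSpec.QCAlg.specMap α z = A.ι V.1 V.2 (pullback.fst (A.ι V.1 V.2 ≫ A.π) (B.ι V.1 V.2 ≫ B.π) t) := by
        rw [← hfst, ht, ← Scheme.Hom.comp_apply, pullback.lift_fst]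
      rw [← C.π_preimage V.1 V.2, ← RelSpec.QCAlg.specMap_π α]
      show (RelSpec.QCAlg.specMap α ≫ A.π) z ∈ V.1
      rw [Scheme.Hom.comp_apply, h2]
      exact (A.π_preimage V.1 V.2).ge ⟨_, rfl⟩
    · rintro _ ⟨t, rfl⟩
      exact ⟨g t, by rw [← Scheme.Hom.comp_apply, ← hLg]; rfl⟩
  have hpb := (IsOpenImmersion.isPullback g (C.ι V.1 V.2) (m V) L hLg hpre).flip
  show MorphismProperty.isomorphisms Scheme (L ∣_ (m V).opensRange)
  refine (MorphismProperty.arrow_mk_iso_iff (MorphismProperty.isomorphisms Scheme)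
    (morphismRestrictOpensRange L (m V))).2 ?_
  rw [← hpb.isoPullback_inv_snd]
  exact MorphismProperty.comp_mem _ _ _ (inferInstanceAs (IsIso hpb.isoPullback.inv)) (inferInstanceAs (IsIso g))

/-- The sections of the symmetric algebra of a direct sum. -/
theorem isPushout_biprod {E F : S.Modules} [Coh.IsQCoh E] [Coh.IsQCoh F]
    {jE : E ⟶ A.toModule} {jF : F ⟶ B.toModule} {j : E ⊞ F ⟶ C.toModule}
    (hAE : RelSpec.IsSymAlg E A jE) (hAF : RelSpec.IsSymAlg F B jF) (hA : RelSpec.IsSymAlg (E ⊞ F) C j)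
    (α : A ⟶ C) (β : B ⟶ C)
    (hα : jE ≫ RelSpec.QCAlg.Hom.toModuleMap α = biprod.inl ≫ j)
    (hβ : jF ≫ RelSpec.QCAlg.Hom.toModuleMap β = biprod.inr ≫ j) (U : S.Opens) (hU : IsAffineOpen U) :
    IsPushout (A.str.app (op U)) (B.str.app (op U)) (α.hom.app (op U)) (β.hom.app (op U)) := by
  haveI := isQCoh_biprod E F
  have w : A.str.app (op U) ≫ α.hom.app (op U) = B.str.app (op U) ≫ β.hom.app (op U) := by
    rw [← NatTrans.comp_app, α.comm, ← NatTrans.comp_app, β.comm]
  have hs : ∀ r, α.hom.app (op U) (A.str.app (op U) r) = C.str.app (op U) r := fun r =>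
    ConcreteCategory.congr_hom (NatTrans.congr_app α.comm (op U)) r
  have hs' : ∀ r, β.hom.app (op U) (B.str.app (op U) r) = C.str.app (op U) r := fun r =>
    ConcreteCategory.congr_hom (NatTrans.congr_app β.comm (op U)) r
  have hαx : ∀ e : Γ(E, U), α.hom.app (op U) (jE.app U e) = j.app U ((biprod.inl : E ⟶ E ⊞ F).app U e) := fun e =>
    ConcreteCategory.congr_hom (congrArg (fun φ => Scheme.Modules.Hom.app φ U) hα) e
  have hβx : ∀ e : Γ(F, U), β.hom.app (op U) (jF.app U e) = j.app U ((biprod.inr : F ⟶ E ⊞ F).app U e) := fun e =>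
    ConcreteCategory.congr_hom (congrArg (fun φ => Scheme.Modules.Hom.app φ U) hβ) e
  have hsum : ∀ x : Γ(E ⊞ F, U), x = (biprod.inl : E ⟶ E ⊞ F).app U ((biprod.fst : E ⊞ F ⟶ E).app U x) +
      (biprod.inr : F ⟶ E ⊞ F).app U ((biprod.snd : E ⊞ F ⟶ F).app U x) := fun x =>
    (ConcreteCategory.congr_hom (congrArg (fun φ => Scheme.Modules.Hom.app φ U) (biprod.total (X := E) (Y := F))) x).symm
  have hinj : ∀ (e : Γ(E, U)), (biprod.fst : E ⊞ F ⟶ E).app U ((biprod.inl : E ⟶ E ⊞ F).app U e) = e ∧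
      (biprod.snd : E ⊞ F ⟶ F).app U ((biprod.inl : E ⟶ E ⊞ F).app U e) = 0 := fun e =>
    ⟨ConcreteCategory.congr_hom (congrArg (fun φ => Scheme.Modules.Hom.app φ U) (biprod.inl_fst (X := E) (Y := F))) e,
      ConcreteCategory.congr_hom (congrArg (fun φ => Scheme.Modules.Hom.app φ U) (biprod.inl_snd (X := E) (Y := F))) e⟩
  have hinj' : ∀ (e : Γ(F, U)), (biprod.snd : E ⊞ F ⟶ F).app U ((biprod.inr : F ⟶ E ⊞ F).app U e) = e ∧
      (biprod.fst : E ⊞ F ⟶ E).app U ((biprod.inr : F ⟶ E ⊞ F).app U e) = 0 := fun e =>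
    ⟨ConcreteCategory.congr_hom (congrArg (fun φ => Scheme.Modules.Hom.app φ U) (biprod.inr_snd (X := E) (Y := F))) e,
      ConcreteCategory.congr_hom (congrArg (fun φ => Scheme.Modules.Hom.app φ U) (biprod.inr_fst (X := E) (Y := F))) e⟩
  have key : ∀ t : PushoutCocone (A.str.app (op U)) (B.str.app (op U)), ∃ d : C.presheaf.obj (op U) ⟶ t.pt,
      α.hom.app (op U) ≫ d = t.inl ∧ β.hom.app (op U) ≫ d = t.inr := by
    intro t
    have ht : ∀ r, t.inl (A.str.app (op U) r) = t.inr (B.str.app (op U) r) := fun r =>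
      ConcreteCategory.congr_hom t.condition r
    let b : Γ(E ⊞ F, U) →+ t.pt := AddMonoidHom.mk' (fun x =>
        t.inl (jE.app U ((biprod.fst : E ⊞ F ⟶ E).app U x)) + t.inr (jF.app U ((biprod.snd : E ⊞ F ⟶ F).app U x)))
      fun x y => by simp only [map_add]; abel
    obtain ⟨d, hd0, hd1⟩ := exists_sectionsHom hA hU (t.inl.hom.comp (A.str.app (op U)).hom) b fun r x => by
      show t.inl (jE.app U _) + t.inr (jF.app U _) = t.inl (A.str.app (op U) r) * (_ + _)
      rw [Scheme.Modules.Hom.app_smul, Scheme.Modules.Hom.app_smul, Scheme.Modules.Hom.app_smul,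
        Scheme.Modules.Hom.app_smul]
      show t.inl (A.str.app (op U) r * (show A.presheaf.obj (op U) from jE.app U ((biprod.fst : E ⊞ F ⟶ E).app U x))) + t.inr (B.str.app (op U) r * (show B.presheaf.obj (op U) from jF.app U ((biprod.snd : E ⊞ F ⟶ F).app U x))) = _
      rw [map_mul, map_mul, ← ht, ← mul_add]
    refine ⟨CommRingCat.ofHom d, CommRingCat.hom_ext (sectionsHom_ext hAE hU (fun r => ?_) fun e => ?_),
      CommRingCat.hom_ext (sectionsHom_ext hAF hU (fun r => ?_) fun e => ?_)⟩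
    · show d (α.hom.app (op U) (A.str.app (op U) r)) = _
      rw [hs, hd0]; rfl
    · show d (α.hom.app (op U) (jE.app U e)) = _
      rw [hαx, hd1]
      show t.inl (jE.app U _) + t.inr (jF.app U _) = _
      rw [(hinj e).1, (hinj e).2, map_zero]
      exact (congrArg (_ + ·) (map_zero t.inr.hom)).trans (add_zero _)
    · show d (β.hom.app (op U) (B.str.app (op U) r)) = _
      rw [hs', hd0]; exact ht r
    · show d (β.hom.app (op U) (jF.app U e)) = _
      rw [hβx, hd1]
      show t.inl (jE.app U _) + t.inr (jF.app U _) = _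
      rw [(hinj' e).1, (hinj' e).2, map_zero]
      exact (congrArg (· + _) (map_zero t.inl.hom)).trans (zero_add _)
  choose d hd₁ hd₂ using key
  refine ⟨⟨w⟩, ⟨PushoutCocone.IsColimit.mk w d hd₁ hd₂ fun t f h₁ h₂ => CommRingCat.hom_ext ?_⟩⟩
  refine sectionsHom_ext hA hU (fun r => ?_) fun x => ?_
  · rw [← hs]
    exact (ConcreteCategory.congr_hom h₁ (A.str.app (op U) r)).trans
      (ConcreteCategory.congr_hom (hd₁ t) (A.str.app (op U) r)).symm
  · rw [hsum x, map_add]
    refine (map_add f.hom _ _).trans (Eq.trans ?_ (map_add (d t).hom _ _).symm)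
    rw [← hαx, ← hβx]
    exact congrArg₂ (· + ·)
      ((ConcreteCategory.congr_hom h₁ _).trans (ConcreteCategory.congr_hom (hd₁ t) _).symm)
      ((ConcreteCategory.congr_hom h₂ _).trans (ConcreteCategory.congr_hom (hd₂ t) _).symm)

end Groth.Agent.SymAlgLib
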