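import Mathlib.LinearAlgebra.SymmetricAlgebra.Basic
import Mathlib.Algebra.Module.LocalizedModule.Basic
import Mathlib.RingTheory.Localization.Module
import Mathlib.Algebra.Module.LocalizedModule.IsLocalization

/-!
# Symmetric algebras along semilinear maps, and their localisation
-/

set_option autoImplicit false

universe u

namespace Groth.Agent.SymAlgLib

variable {R R' R'' : Type u} [CommRing R] [CommRing R'] [CommRing R''] {φ : R →+* R'} {φ' : R' →+* R''}
  {M M' M'' : Type u} [AddCommGroup M] [AddCommGroup M'] [AddCommGroup M''] [Module R M] [Module R' M']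
  [Module R'' M'']

/-- Two ring homomorphisms on a symmetric algebra agree if they agree on scalars and generators. -/
theorem ringHom_ext {C : Type u} [Semiring C] {F G : SymmetricAlgebra R M →+* C}
    (h0 : ∀ r, F (algebraMap R _ r) = G (algebraMap R _ r))
    (h1 : ∀ m, F (SymmetricAlgebra.ι R M m) = G (SymmetricAlgebra.ι R M m)) : F = G := by
  refine RingHom.ext fun x => ?_
  induction x using SymmetricAlgebra.induction with
  | algebraMap r => exact h0 r
  | ι m => exact h1 m
  | mul a b ha hb => rw [map_mul, map_mul, ha, hb]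
  | add a b ha hb => rw [map_add, map_add, ha, hb]

/-- The map of symmetric algebras along a semilinear map. -/
noncomputable def symMap (f : M →ₛₗ[φ] M') : SymmetricAlgebra R M →+* SymmetricAlgebra R' M' :=
  letI := ((algebraMap R' (SymmetricAlgebra R' M')).comp φ).toAlgebra
  (SymmetricAlgebra.lift (A := SymmetricAlgebra R' M')
    ({ toFun := fun m => SymmetricAlgebra.ι R' M' (f m)
       map_add' := fun a b => by rw [map_add, map_add]
       map_smul' := fun r m => by
        rw [f.map_smulₛₗ, map_smul, RingHom.id_apply, Algebra.smul_def, Algebra.smul_def]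
        rfl } : M →ₗ[R] SymmetricAlgebra R' M')).toRingHom

theorem symMap_algebraMap (f : M →ₛₗ[φ] M') (r : R) :
    symMap f (algebraMap R (SymmetricAlgebra R M) r) = algebraMap R' (SymmetricAlgebra R' M') (φ r) := by
  letI := ((algebraMap R' (SymmetricAlgebra R' M')).comp φ).toAlgebra
  exact AlgHom.commutes (SymmetricAlgebra.lift (A := SymmetricAlgebra R' M') _) r

theorem symMap_ι (f : M →ₛₗ[φ] M') (m : M) :
    symMap f (SymmetricAlgebra.ι R M m) = SymmetricAlgebra.ι R' M' (f m) := by
  letI := ((algebraMap R' (SymmetricAlgebra R' M')).comp φ).toAlgebra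
  exact SymmetricAlgebra.lift_ι_apply (A := SymmetricAlgebra R' M') _ m

/-- Localisation commutes with symmetric algebras. -/
theorem isLocalization_symMap [Algebra R R'] (T : Submonoid R) [IsLocalization T R'] [Module R M']
    [IsScalarTower R R' M'] (f : M →ₛₗ[algebraMap R R'] M') (f₀ : M →ₗ[R] M') (hf : ∀ m, f₀ m = f m)
    [IsLocalizedModule T f₀] :
    letI := (symMap f).toAlgebra
    IsLocalization (T.map (algebraMap R (SymmetricAlgebra R M))) (SymmetricAlgebra R' M') := by
  letI := (symMap f).toAlgebra
  let A := SymmetricAlgebra R M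
  let A' := SymmetricAlgebra R' M'
  let P := T.map (algebraMap R A)
  let L := Localization P
  have hu : ∀ t : T, IsUnit (((algebraMap A L).comp (algebraMap R A)) (t : R)) := fun t =>
    IsLocalization.map_units L (⟨algebraMap R A t, ⟨t, t.2, rfl⟩⟩ : P)
  let θ : R' →+* L := IsLocalization.lift hu
  letI : Algebra R' L := θ.toAlgebra
  have hθ : ∀ r : R, θ (algebraMap R R' r) = algebraMap A L (algebraMap R A r) := IsLocalization.lift_eq hu
  haveI : IsScalarTower R R' L := IsScalarTower.of_algebraMap_eq fun r => by
    rw [IsScalarTower.algebraMap_apply R A L]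
    exact (hθ r).symm
  let g : M →ₗ[R] L := ((IsScalarTower.toAlgHom R A L).toLinearMap).comp (SymmetricAlgebra.ι R M)
  have hg : ∀ t : T, IsUnit (algebraMap R (Module.End R L) t) := fun t => by
    refine (Module.End.isUnit_iff _).2 ?_
    have := hu t
    obtain ⟨w, hw⟩ := this
    have e : ∀ x : L, algebraMap R (Module.End R L) t x = (w : L) * x := fun x => by
      rw [Module.algebraMap_end_apply]
      refine (Algebra.smul_def (t : R) x).trans ?_
      rw [IsScalarTower.algebraMap_apply R A L, hw]
      rfl
    refine ⟨fun x y h => ?_, fun y => ⟨(w⁻¹ : Lˣ) * y, ?_⟩⟩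
    · rw [e, e] at h
      exact (w.isUnit.mul_right_inj).1 h
    · rw [e, ← mul_assoc, Units.mul_inv, one_mul]
  let g' : M' →ₗ[R] L := IsLocalizedModule.lift T f₀ g hg
  have hg' : ∀ m, g' (f₀ m) = algebraMap A L (SymmetricAlgebra.ι R M m) := fun m =>
    IsLocalizedModule.lift_apply T f₀ g hg m
  let ψ : A' →+* L := (SymmetricAlgebra.lift (R := R') (g'.extendScalarsOfIsLocalization T R')).toRingHom
  have hψ0 : ∀ r', ψ (algebraMap R' A' r') = θ r' := fun r' =>
    AlgHom.commutes (SymmetricAlgebra.lift (R := R') (g'.extendScalarsOfIsLocalization T R')) r'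
  have hψ1 : ∀ m', ψ (SymmetricAlgebra.ι R' M' m') = g' m' := fun m' =>
    SymmetricAlgebra.lift_ι_apply (g'.extendScalarsOfIsLocalization T R') m'
  have hu' : ∀ y : P, IsUnit (symMap f (y : A)) := by
    rintro ⟨_, t, ht, rfl⟩
    rw [symMap_algebraMap]
    exact (IsLocalization.map_units R' ⟨t, ht⟩).map _
  let χ : L →+* A' := IsLocalization.lift hu'
  have hχ : ∀ a, χ (algebraMap A L a) = symMap f a := IsLocalization.lift_eq hu'
  have h1 : ψ.comp χ = RingHom.id L := IsLocalization.ringHom_ext P (ringHom_ext
    (fun r => by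
      simp only [RingHom.comp_apply, RingHom.id_apply]
      rw [hχ, symMap_algebraMap, hψ0, hθ])
    (fun m => by
      simp only [RingHom.comp_apply, RingHom.id_apply]
      rw [hχ, symMap_ι, hψ1, ← hf, hg']))
  have hχθ : χ.comp θ = algebraMap R' A' := IsLocalization.ringHom_ext T (RingHom.ext fun r => by
    simp only [RingHom.comp_apply]
    rw [hθ, hχ, symMap_algebraMap])
  have h2 : χ.comp ψ = RingHom.id A' := ringHom_ext
    (fun r' => by
      simp only [RingHom.comp_apply, RingHom.id_apply]
      rw [hψ0]
      exact RingHom.congr_fun hχθ r')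
    (fun m' => by
      simp only [RingHom.comp_apply, RingHom.id_apply]
      rw [hψ1]
      obtain ⟨⟨m, t⟩, ht⟩ := IsLocalizedModule.surj T f₀ m'
      have ht' : (t : R) • m' = f₀ m := ht
      have hunit : IsUnit (algebraMap R' A' (algebraMap R R' t)) := (IsLocalization.map_units R' t).map _
      refine hunit.mul_right_inj.1 ?_
      have e : algebraMap A L (algebraMap R A t) * g' m' = algebraMap A L (SymmetricAlgebra.ι R M m) := by
        rw [← hg', ← ht', map_smul]
        exact ((congrArg (· * g' m') (IsScalarTower.algebraMap_apply R A L (t : R))).symm.trans (Algebra.smul_def (t : R) (g' m')).symm)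
      have e' := congrArg χ e
      rw [map_mul, hχ, hχ, symMap_algebraMap, symMap_ι] at e'
      rw [e', ← hf, ← ht', algebra_compatible_smul R' (t : R) m', map_smul]
      exact Algebra.smul_def _ _)
  refine IsLocalization.isLocalization_of_algEquiv P (S := L) ?_
  exact AlgEquiv.ofRingEquiv (f := RingEquiv.ofRingHom χ ψ h2 h1) hχ

end Groth.Agent.SymAlgLib
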