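import Groth.Agent.SymAlgLib.AffData
import Groth.Agent.SymAlgLib.SymLoc
import Groth.Agent.Coherent.QcohLocal
import Groth.Agent.PicLib.Invertible

/-!
# The symmetric algebra of a quasi-coherent module
-/

set_option autoImplicit false
set_option linter.unusedSectionVars false
set_option backward.isDefEq.respectTransparency false
set_option maxHeartbeats 1000000

universe u

open CategoryTheory CategoryTheory.Limits AlgebraicGeometry TopologicalSpace Opposite
open Groth.Agent.Coherent Groth.Agent.PicLib

namespace Groth.Agent.SymAlgLib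

variable {S : Scheme.{u}} (E : S.Modules)

/-- Restriction of sections, as a semilinear map. -/
noncomputable def secMap {U V : S.Opens} (h : V ≤ U) :
    Γ(E, U) →ₛₗ[(S.presheaf.map (homOfLE h).op).hom] Γ(E, V) where
  toFun := resM E h
  map_add' := map_add _
  map_smul' r m := resM_smul E h r m

/-- The symmetric algebras of the sections over affine opens. -/
noncomputable def symFunctor : S.AffineZariskiSiteᵒᵖ ⥤ CommRingCat.{u} where
  obj U := CommRingCat.of (SymmetricAlgebra Γ(S, U.unop.1) Γ(E, U.unop.1))
  map i := CommRingCat.ofHom (symMap (secMap E (Scheme.AffineZariskiSite.toOpens_mono i.unop.le)))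
  map_id U := CommRingCat.hom_ext (ringHom_ext
    (fun r => (symMap_algebraMap _ r).trans (congrArg _ (ConcreteCategory.congr_hom (S.presheaf.map_id _) r)))
    (fun m => (symMap_ι _ m).trans (congrArg _ (resM_self E _ m))))
  map_comp {U V W} i i' := CommRingCat.hom_ext (ringHom_ext
    (fun r => by
      refine (symMap_algebraMap _ r).trans ?_
      simp only [CommRingCat.hom_comp, CommRingCat.hom_ofHom, RingHom.comp_apply, symMap_algebraMap]
      congr 1
      exact ConcreteCategory.congr_hom (S.presheaf.map_comp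
        (homOfLE (Scheme.AffineZariskiSite.toOpens_mono i.unop.le)).op
        (homOfLE (Scheme.AffineZariskiSite.toOpens_mono i'.unop.le)).op) r)
    (fun m => by
      refine (symMap_ι _ m).trans ?_
      simp only [CommRingCat.hom_comp, CommRingCat.hom_ofHom, RingHom.comp_apply, symMap_ι]
      congr 1
      show resM E _ m = resM E _ (resM E _ m)
      exact (resM_resM E (Scheme.AffineZariskiSite.toOpens_mono i.unop.le)
        (Scheme.AffineZariskiSite.toOpens_mono i'.unop.le) m).symm))

/-- Scalars. -/
noncomputable def symStr : (Scheme.AffineZariskiSite.toOpensFunctor S).op ⋙ S.presheaf ⟶ symFunctor E where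
  app U := CommRingCat.ofHom (algebraMap Γ(S, U.unop.1) (SymmetricAlgebra Γ(S, U.unop.1) Γ(E, U.unop.1)))
  naturality U V i := CommRingCat.hom_ext (RingHom.ext fun r =>
    (symMap_algebraMap (secMap E (Scheme.AffineZariskiSite.toOpens_mono i.unop.le)) r).symm)

theorem isLocalizedModule_secMap [Coh.IsQCoh E] {U : S.Opens} (hU : IsAffineOpen U) (r : Γ(S, U)) :
    letI := (S.presheaf.map (homOfLE (S.basicOpen_le r)).op).hom.toAlgebra
    letI : Module Γ(S, U) Γ(E, S.basicOpen r) :=
      Module.compHom _ (S.presheaf.map (homOfLE (S.basicOpen_le r)).op).hom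
    IsLocalizedModule.Away r
      ({ toFun := resM E (S.basicOpen_le r)
         map_add' := map_add _
         map_smul' := fun a m => resM_smul E (S.basicOpen_le r) a m } :
        Γ(E, U) →ₗ[Γ(S, U)] Γ(E, S.basicOpen r)) := by
  letI := (S.presheaf.map (homOfLE (S.basicOpen_le r)).op).hom.toAlgebra
  letI : Module Γ(S, U) Γ(E, S.basicOpen r) :=
    Module.compHom _ (S.presheaf.map (homOfLE (S.basicOpen_le r)).op).hom
  have hloc := localizesOn_of_isQCoh E hU
  refine IsLocalizedModule.Away.mk_of_addCommGroup ?_ ?_ fun t ht => hloc.exists_pow_smul_eq_zero r t ht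
  · obtain ⟨w, hw⟩ : IsUnit ((S.presheaf.map (homOfLE (S.basicOpen_le r)).op).hom r) :=
      RingedSpace.isUnit_res_basicOpen _ r
    refine (Module.End.isUnit_iff _).2 ⟨fun x y h => ?_, fun y => ⟨(w⁻¹).1 • y, ?_⟩⟩
    · have h' : w.1 • x = w.1 • y := by rw [hw]; exact h
      exact (w.isUnit.smul_left_cancel).1 h'
    · show (S.presheaf.map (homOfLE (S.basicOpen_le r)).op).hom r • ((w⁻¹).1 • y) = y
      rw [← hw, smul_smul, Units.mul_inv, one_smul]
  · intro s
    obtain ⟨n, t, ht⟩ := hloc.exists_pow_smul r s
    exact ⟨n, t, ht.symm⟩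

theorem coequifibered_symStr [Coh.IsQCoh E] : (symStr E).Coequifibered := by
  refine Scheme.AffineZariskiSite.coequifibered_iff_forall_isLocalizationAway.2 fun U r => ?_
  letI := (S.presheaf.map (homOfLE (S.basicOpen_le r)).op).hom.toAlgebra
  letI : Module Γ(S, U.1) Γ(E, S.basicOpen r) :=
    Module.compHom _ (S.presheaf.map (homOfLE (S.basicOpen_le r)).op).hom
  haveI : IsScalarTower Γ(S, U.1) Γ(S, S.basicOpen r) Γ(E, S.basicOpen r) :=
    IsScalarTower.of_algebraMap_smul fun _ _ => rfl
  haveI : IsLocalization (Submonoid.powers r) Γ(S, S.basicOpen r) := U.2.isLocalization_basicOpen r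
  haveI := isLocalizedModule_secMap E U.2 r
  have h := isLocalization_symMap (R := Γ(S, U.1)) (R' := Γ(S, S.basicOpen r)) (Submonoid.powers r)
    (secMap E (S.basicOpen_le r))
    ({ toFun := resM E (S.basicOpen_le r)
       map_add' := map_add _
       map_smul' := fun a m => resM_smul E (S.basicOpen_le r) a m } :
      Γ(E, U.1) →ₗ[Γ(S, U.1)] Γ(E, S.basicOpen r)) (fun _ => rfl)
  rw [Submonoid.map_powers] at h
  exact h

variable [Coh.IsQCoh E]

/-- The symmetric algebra. -/
noncomputable def symAlg : RelSpec.QCAlg S := alg (coequifibered_symStr E)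

/-- Its sections over affine opens. -/
noncomputable def secIso :
    (Scheme.AffineZariskiSite.toOpensFunctor S).op ⋙ (symAlg E).presheaf ≅ symFunctor E :=
  algIso (coequifibered_symStr E)

theorem secIso_inv_algebraMap (U : S.AffineZariskiSite) (r : Γ(S, U.1)) :
    (secIso E).inv.app (op U) (algebraMap Γ(S, U.1) (SymmetricAlgebra Γ(S, U.1) Γ(E, U.1)) r) =
      (symAlg E).str.app (op U.1) r := by
  have h : (secIso E).hom.app (op U) ((symAlg E).str.app (op U.1) r) =
      algebraMap Γ(S, U.1) (SymmetricAlgebra Γ(S, U.1) Γ(E, U.1)) r :=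
    ConcreteCategory.congr_hom (str_algIso (coequifibered_symStr E) U) r
  rw [← h]
  exact ConcreteCategory.congr_hom (Iso.hom_inv_id_app (secIso E) (op U)) _

/-- The generators over affine opens. -/
noncomputable def genRestrict : (Scheme.AffineZariskiSite.toOpensFunctor S).op ⋙ E.presheaf ⟶
    (Scheme.AffineZariskiSite.toOpensFunctor S).op ⋙ (symAlg E).toAb where
  app U := AddCommGrpCat.ofHom
    (((secIso E).inv.app U).hom.toAddMonoidHom.comp (SymmetricAlgebra.ι Γ(S, U.unop.1) Γ(E, U.unop.1)).toAddMonoidHom)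
  naturality U V i := by
    ext m
    have h : (symFunctor E).map i (SymmetricAlgebra.ι Γ(S, U.unop.1) Γ(E, U.unop.1) m) =
        SymmetricAlgebra.ι Γ(S, V.unop.1) Γ(E, V.unop.1) (resM E (Scheme.AffineZariskiSite.toOpens_mono i.unop.le) m) :=
      symMap_ι (secMap E (Scheme.AffineZariskiSite.toOpens_mono i.unop.le)) m
    show (secIso E).inv.app V (SymmetricAlgebra.ι Γ(S, V.unop.1) Γ(E, V.unop.1)
      (resM E (Scheme.AffineZariskiSite.toOpens_mono i.unop.le) m)) = _
    rw [← h]
    exact ConcreteCategory.congr_hom ((secIso E).inv.naturality i) _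

/-- The sheaf of abelian groups underlying an algebra. -/
noncomputable abbrev abSheaf (B : RelSpec.QCAlg S) : TopCat.Sheaf AddCommGrpCat.{u} S.carrier :=
  ⟨B.toAb, B.isSheaf_toAb⟩

/-- The sheaf of rings underlying an algebra. -/
noncomputable abbrev ringSheaf (B : RelSpec.QCAlg S) : TopCat.Sheaf CommRingCat.{u} S.carrier :=
  ⟨B.presheaf, B.isSheaf⟩

/-- The generators, as a map of presheaves of groups. -/
noncomputable def genAb : E.presheaf ⟶ (symAlg E).toAb :=
  Functor.IsCoverDense.restrictHomEquivHom (G := Scheme.AffineZariskiSite.toOpensFunctor S)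
    (K := Opens.grothendieckTopology S) (ℱ := E.presheaf) (ℱ' := abSheaf (symAlg E)) (genRestrict E)

theorem genAb_app (U : S.AffineZariskiSite) (m : Γ(E, U.1)) :
    (genAb E).app (op U.1) m = (secIso E).inv.app (op U) (SymmetricAlgebra.ι Γ(S, U.1) Γ(E, U.1) m) :=
  ConcreteCategory.congr_hom (NatTrans.congr_app
    ((Functor.IsCoverDense.restrictHomEquivHom (G := Scheme.AffineZariskiSite.toOpensFunctor S)
      (K := Opens.grothendieckTopology S) (ℱ := E.presheaf) (ℱ' := abSheaf (symAlg E))).symm_apply_apply
        (genRestrict E)) (op U)) m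

/-- Equality of sections of an algebra is detected on affine opens. -/
theorem sec_ext (B : RelSpec.QCAlg S) {U : S.Opens} (a b : B.presheaf.obj (op U))
    (h : ∀ (V : S.Opens) (_ : IsAffineOpen V) (hV : V ≤ U),
      (B.presheaf.map (homOfLE hV).op) a = (B.presheaf.map (homOfLE hV).op) b) : a = b := by
  refine TopCat.Sheaf.eq_of_locally_eq' (abSheaf B) (fun V : {V : S.Opens // IsAffineOpen V ∧ V ≤ U} => V.1) U
    (fun V => homOfLE V.2.2) (fun x hx => ?_) a b fun V => h V.1 V.2.1 V.2.2
  obtain ⟨V, hV, hxV, hVU⟩ := Opens.isBasis_iff_nbhd.1 S.isBasis_affineOpens hx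
  exact Opens.mem_iSup.2 ⟨⟨V, hV, hVU⟩, hxV⟩

/-- The generators. -/
noncomputable def gen : E ⟶ (symAlg E).toModule :=
  ⟨letI := (symAlg E).moduleSect
   PresheafOfModules.homMk (genAb E) fun U r m => by
    refine sec_ext (symAlg E) _ _ fun V hV hVU => ?_
    have hn : ∀ z : Γ(E, U.unop), (symAlg E).presheaf.map (homOfLE hVU).op ((genAb E).app U z) =
        (genAb E).app (op V) (resM E hVU z) := fun z =>
      (ConcreteCategory.congr_hom ((genAb E).naturality (homOfLE hVU).op) z).symm
    have hr : resM E hVU (r • m) = (S.presheaf.map (homOfLE hVU).op) r • resM E hVU m :=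
      resM_smul E hVU r m
    refine (hn _).trans ?_
    rw [hr, genAb_app E ⟨V, hV⟩, map_smul, Algebra.smul_def]
    refine (map_mul _ _ _).trans ?_
    erw [secIso_inv_algebraMap E ⟨V, hV⟩, ← genAb_app E ⟨V, hV⟩, ← hn m]
    refine Eq.trans ?_ (map_mul ((symAlg E).presheaf.map (homOfLE hVU).op).hom _ _).symm
    congr 1
    exact ConcreteCategory.congr_hom ((symAlg E).str.naturality (homOfLE hVU).op) r⟩

theorem gen_app (U : S.AffineZariskiSite) (m : Γ(E, U.1)) :
    (gen E).app U.1 m = (secIso E).inv.app (op U) (SymmetricAlgebra.ι Γ(S, U.1) Γ(E, U.1) m) :=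
  genAb_app E U m

variable {E} (B : RelSpec.QCAlg S) (φ : E ⟶ B.toModule)

/-- The extension over an affine open. -/
noncomputable def extendAt (U : S.Opens) : SymmetricAlgebra Γ(S, U) Γ(E, U) →+* B.presheaf.obj (op U) :=
  letI := (B.str.app (op U)).hom.toAlgebra
  (SymmetricAlgebra.lift (R := Γ(S, U)) (A := B.presheaf.obj (op U))
    ({ toFun := fun m => φ.app U m
       map_add' := map_add _
       map_smul' := fun r m => Scheme.Modules.Hom.app_smul φ r m } :
      Γ(E, U) →ₗ[Γ(S, U)] B.presheaf.obj (op U))).toRingHom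

theorem extendAt_algebraMap (U : S.Opens) (r : Γ(S, U)) :
    extendAt B φ U (algebraMap Γ(S, U) (SymmetricAlgebra Γ(S, U) Γ(E, U)) r) = B.str.app (op U) r := by
  letI := (B.str.app (op U)).hom.toAlgebra
  exact AlgHom.commutes (SymmetricAlgebra.lift (R := Γ(S, U)) (A := B.presheaf.obj (op U)) _) r

theorem extendAt_ι (U : S.Opens) (m : Γ(E, U)) :
    extendAt B φ U (SymmetricAlgebra.ι Γ(S, U) Γ(E, U) m) = φ.app U m := by
  letI := (B.str.app (op U)).hom.toAlgebra
  exact SymmetricAlgebra.lift_ι_apply (A := B.presheaf.obj (op U)) _ m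

/-- The extension on affine opens. -/
noncomputable def extendRestrict :
    symFunctor E ⟶ (Scheme.AffineZariskiSite.toOpensFunctor S).op ⋙ B.presheaf where
  app U := CommRingCat.ofHom (extendAt B φ U.unop.1)
  naturality U V i := CommRingCat.hom_ext (ringHom_ext
    (fun r => by
      refine (congrArg (extendAt B φ V.unop.1) (symMap_algebraMap _ r)).trans ?_
      rw [extendAt_algebraMap]
      refine Eq.trans ?_ (congrArg (fun z => B.presheaf.map ((Scheme.AffineZariskiSite.toOpensFunctor S).map i.unop).op z)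
        (extendAt_algebraMap B φ U.unop.1 r)).symm
      exact ConcreteCategory.congr_hom (B.str.naturality ((Scheme.AffineZariskiSite.toOpensFunctor S).map i.unop).op) r)
    (fun m => by
      refine (congrArg (extendAt B φ V.unop.1) (symMap_ι _ m)).trans ?_
      rw [extendAt_ι]
      refine Eq.trans ?_ (congrArg (fun z => B.presheaf.map ((Scheme.AffineZariskiSite.toOpensFunctor S).map i.unop).op z)
        (extendAt_ι B φ U.unop.1 m)).symm
      exact app_resM φ (Scheme.AffineZariskiSite.toOpens_mono i.unop.le) m))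

/-- The extension. -/
noncomputable def extend : symAlg E ⟶ B where
  hom := Functor.IsCoverDense.restrictHomEquivHom (G := Scheme.AffineZariskiSite.toOpensFunctor S)
    (K := Opens.grothendieckTopology S) (ℱ := (symAlg E).presheaf) (ℱ' := ringSheaf B)
    ((secIso E).hom ≫ extendRestrict B φ)
  comm := by
    apply (Functor.IsCoverDense.restrictHomEquivHom (G := Scheme.AffineZariskiSite.toOpensFunctor S)
      (K := Opens.grothendieckTopology S) (ℱ := S.presheaf) (ℱ' := ringSheaf B)).symm.injective
    rw [Functor.IsCoverDense.restrictHomEquivHom_naturality_left_symm, Equiv.symm_apply_apply]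
    ext U : 2
    refine CommRingCat.hom_ext (RingHom.ext fun r => ?_)
    show extendAt B φ U.unop.1 ((secIso E).hom.app U ((symAlg E).str.app (op U.unop.1) r)) = _
    erw [ConcreteCategory.congr_hom (str_algIso (coequifibered_symStr E) U.unop) r]
    exact extendAt_algebraMap B φ U.unop.1 r

theorem extend_app (U : S.AffineZariskiSite) (x : (symAlg E).presheaf.obj (op U.1)) :
    (extend B φ).hom.app (op U.1) x = extendAt B φ U.1 ((secIso E).hom.app (op U) x) :=
  ConcreteCategory.congr_hom (NatTrans.congr_app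
    ((Functor.IsCoverDense.restrictHomEquivHom (G := Scheme.AffineZariskiSite.toOpensFunctor S)
      (K := Opens.grothendieckTopology S) (ℱ := (symAlg E).presheaf) (ℱ' := ringSheaf B)).symm_apply_apply
        ((secIso E).hom ≫ extendRestrict B φ)) (op U)) x

variable (E) in
theorem isSymAlg_symAlg : RelSpec.IsSymAlg E (symAlg E) (gen E) := by
  intro B φ
  refine ⟨extend B φ, ?_, fun ψ hψ => ?_⟩
  · refine Scheme.Modules.hom_ext _ _ fun U => AddCommGrpCat.ext fun m => ?_
    refine sec_ext B _ _ fun V hV hVU => ?_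
    show resM B.toModule hVU ((gen E ≫ RelSpec.QCAlg.Hom.toModuleMap (extend B φ)).app U m) =
      resM B.toModule hVU (φ.app U m)
    rw [← app_resM, ← app_resM]
    show (extend B φ).hom.app (op V) ((gen E).app V (resM E hVU m)) = _
    rw [gen_app E ⟨V, hV⟩, extend_app B φ ⟨V, hV⟩]
    exact (congrArg (extendAt B φ V) (ConcreteCategory.congr_hom (Iso.inv_hom_id_app (secIso E) (op ⟨V, hV⟩)) _)).trans
      (extendAt_ι B φ V _)
  · refine RelSpec.QCAlg.hom_ext ?_
    apply (Functor.IsCoverDense.restrictHomEquivHom (G := Scheme.AffineZariskiSite.toOpensFunctor S)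
      (K := Opens.grothendieckTopology S) (ℱ := (symAlg E).presheaf) (ℱ' := ringSheaf B)).symm.injective
    refine NatTrans.ext (funext fun U => ?_)
    rw [← cancel_epi ((secIso E).inv.app U)]
    refine CommRingCat.hom_ext (ringHom_ext (fun r => ?_) fun m => ?_)
    · show ψ.hom.app (op U.unop.1) ((secIso E).inv.app U _) = (extend B φ).hom.app (op U.unop.1) ((secIso E).inv.app U _)
      rw [secIso_inv_algebraMap E U.unop]
      exact (ConcreteCategory.congr_hom (NatTrans.congr_app ψ.comm (op U.unop.1)) r).trans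
        (ConcreteCategory.congr_hom (NatTrans.congr_app (extend B φ).comm (op U.unop.1)) r).symm
    · show ψ.hom.app (op U.unop.1) ((secIso E).inv.app U _) = (extend B φ).hom.app (op U.unop.1) ((secIso E).inv.app U _)
      rw [← gen_app E U.unop, extend_app B φ U.unop, gen_app E U.unop]
      refine Eq.trans ?_ ((congrArg (extendAt B φ U.unop.1)
        (ConcreteCategory.congr_hom (Iso.inv_hom_id_app (secIso E) U) _)).trans (extendAt_ι B φ U.unop.1 m)).symm
      rw [← gen_app E U.unop, ← hψ]
      rfl

end Groth.Agent.SymAlgLib
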