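import Groth.Prelude.Def_RelSpec

/-!
# Quasi-coherent algebras from their sections over affine opens
-/

set_option autoImplicit false
set_option linter.unusedSectionVars false
set_option backward.isDefEq.respectTransparency false

universe u

open CategoryTheory CategoryTheory.Limits AlgebraicGeometry TopologicalSpace Opposite

namespace Groth.Agent.SymAlgLib

variable {S : Scheme.{u}} {F : S.AffineZariskiSiteᵒᵖ ⥤ CommRingCat.{u}}
  {α : (Scheme.AffineZariskiSite.toOpensFunctor S).op ⋙ S.presheaf ⟶ F} (H : α.Coequifibered)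

/-- The gluing data. -/
noncomputable def data : (Scheme.AffineZariskiSite.directedCover S).RelativeGluingData :=
  Scheme.AffineZariskiSite.relativeGluingData H

instance : ((data H).functor ⋙ Scheme.forget).IsLocallyDirected :=
  Scheme.Cover.RelativeGluingData.instIsLocallyDirectedI₀CompFunctorForgetOfIsThin ..

/-- The glued scheme. -/
noncomputable def total : Scheme.{u} := (data H).glued

/-- Its structure morphism. -/
noncomputable def toBase : total H ⟶ S := (data H).toBase

/-- The chart over an affine open. -/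
noncomputable def chart (U : S.AffineZariskiSite) : Spec (F.obj (op U)) ⟶ total H := (data H).cover.f U

instance (U : S.AffineZariskiSite) : IsOpenImmersion (chart H U) := (data H).cover.map_prop U

theorem chart_toBase (U : S.AffineZariskiSite) :
    chart H U ≫ toBase H = Spec.map (α.app (op U)) ≫ U.2.fromSpec :=
  colimit.ι_desc _ _

theorem preimage_toBase (U : S.AffineZariskiSite) : toBase H ⁻¹ᵁ U.1 = (chart H U).opensRange := by
  simpa using! (data H).toBase_preimage_eq_opensRange_ι U

theorem chart_res {U V : S.AffineZariskiSite} (i : V ⟶ U) :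
    Spec.map (F.map i.op) ≫ chart H U = chart H V :=
  colimit.w (data H).functor i

instance : IsAffineHom (toBase H) where
  isAffine_preimage U hU := by
    rw [preimage_toBase H ⟨U, hU⟩]
    exact isAffineOpen_opensRange (chart H ⟨U, hU⟩)

theorem top_le_preimage_chart (U : S.AffineZariskiSite) :
    (⊤ : (Spec (F.obj (op U))).Opens) ≤ chart H U ⁻¹ᵁ (toBase H ⁻¹ᵁ U.1) := by
  intro x _
  show chart H U x ∈ toBase H ⁻¹ᵁ U.1
  rw [preimage_toBase]
  exact ⟨x, rfl⟩

/-- Sections over the preimage of an affine open. -/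
noncomputable def secHom (U : S.AffineZariskiSite) : Γ(total H, toBase H ⁻¹ᵁ U.1) ⟶ F.obj (op U) :=
  (chart H U).appLE (toBase H ⁻¹ᵁ U.1) ⊤ (top_le_preimage_chart H U) ≫ (Scheme.ΓSpecIso _).hom

instance (U : S.AffineZariskiSite) : IsIso (secHom H U) := by
  have : chart H U ⁻¹ᵁ (toBase H ⁻¹ᵁ U.1) = ⊤ := top_le_iff.1 (top_le_preimage_chart H U)
  have h1 : IsIso ((chart H U).app (toBase H ⁻¹ᵁ U.1)) :=
    (chart H U).isIso_app _ (preimage_toBase H U).le
  rw [secHom, Scheme.Hom.appLE]
  have : IsIso ((Spec (F.obj (op U))).presheaf.map (homOfLE (top_le_preimage_chart H U)).op) := by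
    have : IsIso (homOfLE (top_le_preimage_chart H U)) := ⟨homOfLE this.le, rfl, rfl⟩
    infer_instance
  infer_instance

theorem secHom_natural {U V : S.AffineZariskiSite} (i : V ⟶ U) :
    (total H).presheaf.map (homOfLE ((toBase H).preimage_mono (Scheme.AffineZariskiSite.toOpens_mono i.le))).op ≫
      secHom H V = secHom H U ≫ F.map i.op := by
  simp only [secHom, Category.assoc, ← Scheme.ΓSpecIso_naturality]
  simp only [← Category.assoc]
  congr 1
  simp only [Scheme.Hom.appTop, Scheme.Hom.appLE, Category.assoc]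
  have h1 := (Scheme.Hom.comp_app (Spec.map (F.map i.op)) (chart H U) (toBase H ⁻¹ᵁ U.1)).symm
  rw [Scheme.Hom.naturality_assoc, Scheme.Hom.naturality, reassoc_of% h1,
    Scheme.Hom.congr_app (chart_res H i), Category.assoc, ← Functor.map_comp, ← Functor.map_comp]
  rfl

theorem toBase_app_secHom (U : S.AffineZariskiSite) : (toBase H).app U.1 ≫ secHom H U = α.app (op U) := by
  have h1 := Scheme.Hom.congr_app (chart_toBase H U) U.1
  have h2 := (Scheme.Hom.comp_app (chart H U) (toBase H) U.1).symm
  have hk : ∀ k : (op ⊤ : (Spec (F.obj (op U))).Opensᵒᵖ) ⟶ op ⊤,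
      (Spec (F.obj (op U))).presheaf.map k = 𝟙 _ := fun k => by
    rw [Subsingleton.elim k (𝟙 _)]; exact CategoryTheory.Functor.map_id _ _
  simp only [secHom, Scheme.Hom.appLE, Category.assoc]
  rw [reassoc_of% h2, h1, Scheme.Hom.comp_app, U.2.fromSpec_app_self]
  simp only [Category.assoc]
  rw [Scheme.Hom.naturality_assoc]
  simp only [← Functor.map_comp_assoc]
  erw [hk, Category.id_comp]
  rw [← cancel_epi (Scheme.ΓSpecIso Γ(S, U.1)).hom, Iso.hom_inv_id_assoc]
  erw [Scheme.ΓSpecIso_naturality]
  rfl

/-- The quasi-coherent algebra. -/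
noncomputable def alg : RelSpec.QCAlg S := RelSpec.QCAlg.directImage (toBase H)

/-- Its sections over the affine opens. -/
noncomputable def algIso : (Scheme.AffineZariskiSite.toOpensFunctor S).op ⋙ (alg H).presheaf ≅ F :=
  NatIso.ofComponents (fun U => @asIso _ _ _ _ (secHom H U.unop) _) fun {U V} i => secHom_natural H i.unop

theorem str_algIso (U : S.AffineZariskiSite) :
    (alg H).str.app (op U.1) ≫ (algIso H).hom.app (op U) = α.app (op U) :=
  toBase_app_secHom H U

end Groth.Agent.SymAlgLib
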